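import Groth.Agent.Lib.CurveMult.HyperPowers
import Groth.Agent.Lib.CurveMult.HiggsPair
import Groth.Agent.Lib.CurveMult.P1Split
import Groth.Agent.Lib.CurveMult.TwistHom
import Groth.Agent.Lib.TFCurv11.NormPush
import Groth.Agent.Lib.TFCurv11.PushStab
import Groth.Agent.Lib.FunFld.Conseq
import Groth.Agent.Lib.K0Curve28.Main
import Groth.Agent.Lib.Cube.Pic

/-!
# Direct images of line bundles along double covers of the line by curves of genus one
-/

set_option autoImplicit false
set_option linter.style.haveILetI false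
set_option linter.unusedSectionVars false
set_option backward.isDefEq.respectTransparency false
set_option maxHeartbeats 1000000

universe u

open CategoryTheory CategoryTheory.Limits AlgebraicGeometry TopologicalSpace
open GrothLib.CurveMult (P1Split.O1)

noncomputable section

namespace GrothLib.DblSplit28

open GrothLib.CurveMult.P1Split (overP1 O1 inv_O1 deg_O1)
open GrothLib.CurveRR (oD)

attribute [local instance] CurveMult.P1Split.overP1
attribute [local irreducible] Curv2.euler

local notation "T" => CohB1.tensorMod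

section Gen

variable {Z : Scheme.{u}}

theorem tF_eq (N E : Z.Modules) : (Euler.tF N).obj E = T E N := rfl

/-- Tensoring an isomorphism. -/
def mapT {A B : Z.Modules} (e : A ≅ B) (N : Z.Modules) : T A N ≅ (Euler.tF N).obj B :=
  eqToIso (tF_eq N A).symm ≪≫ (Euler.tF N).mapIso e

theorem deg_tensor (k : Type u) [Field k] [IsIntegral Z] [Z.Over (Spec (CommRingCat.of k))]
    [IsProper (Z ↘ Spec (CommRingCat.of k))] [CurveRR.RegCurve Z]
    {n : ℕ} {E N : Z.Modules} (hE : FlatMod.IsFinLocFreeOfRank n E) (hN : PicF.IsInvertible N) :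
    Curv2.deg k Z (T E N) n = Curv2.deg k Z E n + n * Curv2.deg k Z N 1 :=
  tF_eq N E ▸ CurveMult.deg_tF k hE hN

end Gen

variable (k : Type u) [Field k] {C : Scheme.{u}} [IsIntegral C] [C.Over (Spec (CommRingCat.of k))]
  [IsProper (C ↘ Spec (CommRingCat.of k))] [CurveRR.RegCurve C]
  (f : C ⟶ CohB1.ProjSpace 1 k) (hf : f ≫ CohB1.ProjSpace.toSpec 1 k = C ↘ Spec (CommRingCat.of k))
  [IsFinite f] [Flat f] (hrk : ∀ y : ↥(CohB1.ProjSpace 1 k), Scheme.Hom.finrank f y = 2)

include hf in
theorem map_genericPoint : f (genericPoint C) = genericPoint (CohB1.ProjSpace 1 k) := by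
  obtain ⟨-, -, hgen⟩ := CurveMult.HyperP1.isFinite_flat_dominant k f hf (CurveMult.range_nontrivial_of_isFinite k f)
  exact ((specializes_iff_forall_open.2 fun s hs hmem => hgen ⟨s, hs⟩ ⟨_, hmem⟩).antisymm
      ((genericPoint_spec _).specializes trivial)).eq

include hf hrk in
theorem deg_pullback (t : ℤ) : Curv2.deg k C ((Scheme.Modules.pullback f).obj (O1 k t)) 1 = 2 * t := by
  haveI : IsProper (CohB1.ProjSpace.toSpec 1 k) := Chow.isProper_toSpec 1 k
  haveI : IsLocallyNoetherian (CohB1.ProjSpace 1 k) :=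
    LocallyOfFiniteType.isLocallyNoetherian (CohB1.ProjSpace.toSpec 1 k)
  haveI : LocallyOfFinitePresentation f := inferInstance
  have hξ := map_genericPoint k f hf
  have hres : f.residueDegree (genericPoint C) = 2 :=
    ((CurveMult.generic_finite_flat f hξ).1 (genericPoint (CohB1.ProjSpace 1 k))).symm.trans (hrk _)
  rw [Groth.Agent.S7640.result k C (CohB1.ProjSpace 1 k) CurveRR.RegCurve.dim (CurveMult.P1Split.dim_P1 k) f hf hξ 1
      (O1 k t) (Euler.isFinLocFreeOfRank_one' (inv_O1 k t)), hres, deg_O1]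
  norm_num

include hf in
theorem finrank_H0_twist {L : C.Modules} (hL : PicF.IsInvertible L) (t : ℤ) :
    Module.finrank k (Coh.HH (CohB1.ProjSpace 1 k) (T ((Scheme.Modules.pushforward f).obj L) (O1 k t)) 0) =
      Module.finrank k (Coh.HH C (T L ((Scheme.Modules.pullback f).obj (O1 k t))) 0) ∧
    Curv2.euler k (CohB1.ProjSpace 1 k) (T ((Scheme.Modules.pushforward f).obj L) (O1 k t)) =
      Curv2.euler k C (T L ((Scheme.Modules.pullback f).obj (O1 k t))) := by
  haveI := Euler.isNoetherian_of_proper (X := C) k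
  haveI := ProjFormula.isIso_projHom f (Euler.isFinLocFree_of_isInvertible (inv_O1 k t)) L
  let L' := (Scheme.Modules.pullback f).obj (O1 k t)
  have hc : Coh.IsCoh (T L L') := CMReg.isCoh_tensorMod (Euler.isCoh_of_isInvertible hL) (Kleiman.isInv_pullback f (inv_O1 k t))
  haveI := hc.1
  let e : T ((Scheme.Modules.pushforward f).obj L) (O1 k t) ≅ (Scheme.Modules.pushforward f).obj (T L L') :=
    (((OX.tensorBraiding (X := CohB1.ProjSpace 1 k)).app (O1 k t)).app ((Scheme.Modules.pushforward f).obj L)) ≪≫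
      asIso (ProjFormula.projHom f (O1 k t) L) ≪≫
      (Scheme.Modules.pushforward f).mapIso (((OX.tensorBraiding (X := C)).app L).app L')
  obtain ⟨g⟩ := Snapper.nonempty_HH_linearEquiv_pushforward f hf (T L L') 0
  exact ⟨(Euler.hhEquiv (A := k) e 0).finrank_eq.trans g.finrank_eq.symm,
    (Euler.euler_of_iso k e).trans (Snapper.euler_pushforward f hf (T L L'))⟩

include hf hrk in
theorem isFinLocFreeOfRank_push {L : C.Modules} (hL : PicF.IsInvertible L) :
    FlatMod.IsFinLocFreeOfRank 2 ((Scheme.Modules.pushforward f).obj L) := by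
  haveI := Euler.isNoetherian_of_proper (X := C) k
  haveI := Euler.isNoetherian_of_proper (X := CohB1.ProjSpace 1 k) k
  have hLc := Euler.isCoh_of_isInvertible hL
  have hM := ASBun21.isCoh_push_finite f hLc
  have hr := Euler.isFinLocFreeOfRank_of_torsionFree (CurveMult.P1Split.pid k) hM
    (NormPush11.isTorsionFree_push f (map_genericPoint k f hf)
      (Euler.isTorsionFree_of_mono (𝟙 L) (Euler.isFinLocFree_of_isInvertible hL)))
  generalize Euler.grank ((Scheme.Modules.pushforward f).obj L) = r at hr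
  have h1 : Curv2.deg k (CohB1.ProjSpace 1 k) (T ((Scheme.Modules.pushforward f).obj L) (O1 k 1)) r =
      Curv2.deg k (CohB1.ProjSpace 1 k) ((Scheme.Modules.pushforward f).obj L) r +
        r * Curv2.deg k (CohB1.ProjSpace 1 k) (O1 k 1) 1 := deg_tensor k hr (inv_O1 k 1)
  have h2 : Curv2.deg k C (T L ((Scheme.Modules.pullback f).obj (O1 k 1))) 1 =
      Curv2.deg k C L 1 + (1 : ℕ) * Curv2.deg k C ((Scheme.Modules.pullback f).obj (O1 k 1)) 1 :=
    deg_tensor k (Euler.isFinLocFreeOfRank_one_of_invertible hL) (Kleiman.isInv_pullback f (inv_O1 k 1))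
  rw [deg_O1] at h1
  rw [deg_pullback k f hf hrk] at h2
  simp only [Curv2.deg, (finrank_H0_twist k f hf hL 1).2] at h1 h2
  haveI := hLc.1
  rw [Snapper.euler_pushforward f hf L] at h1
  obtain rfl : r = 2 := by push_cast at h1 h2; omega
  exact hr

include hf in
theorem exists_pullback_twist_iso {L : C.Modules} (hL : PicF.IsInvertible L) (t : ℤ) :
    Nonempty (T L ((Scheme.Modules.pullback f).obj (O1 k (-t))) ≅ Coh.structureModule C) ↔
      Nonempty (L ≅ (Scheme.Modules.pullback f).obj (O1 k t)) := by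
  have hp : ∀ s : ℤ, PicF.IsInvertible ((Scheme.Modules.pullback f).obj (O1 k s)) := fun s =>
    Ample.isInvertible_pullback f (inv_O1 k s)
  have hone : Cube.clsMod (hp t) * Cube.clsMod (hp (-t)) = 1 := by
    rw [Cube.clsMod_pullback f (inv_O1 k t), Cube.clsMod_pullback f (inv_O1 k (-t)), ← map_mul,
      ← Cube.clsMod_tensorMod (inv_O1 k t) (inv_O1 k (-t)),
      (Cube.clsMod_eq_one_iff _).2 ⟨CurveMult.P1Split.invIso k t (-t) (add_neg_cancel t)⟩, map_one]
  rw [← Cube.clsMod_eq_one_iff (Ample.isInvertible_tensorMod hL (hp (-t))), Cube.clsMod_tensorMod hL (hp (-t)),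
    ← Cube.clsMod_eq_iff hL (hp t)]
  exact ⟨fun h => mul_right_cancel (h.trans hone.symm), fun h => by rw [h]; exact hone⟩

variable (h0 : Module.finrank k (Coh.HH C (Coh.structureModule C) 0) = 1) (hg : Curv2.genus k C = 1)

include h0 hg in
/-- Sections of line bundles on a curve of genus one. -/
theorem h0_genus_one {N : C.Modules} (hN : PicF.IsInvertible N) :
    (Curv2.deg k C N 1 < 0 → Module.finrank k (Coh.HH C N 0) = 0) ∧
    (0 < Curv2.deg k C N 1 → (Module.finrank k (Coh.HH C N 0) : ℤ) = Curv2.deg k C N 1) ∧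
    (Curv2.deg k C N 1 = 0 → ¬ Nonempty (N ≅ Coh.structureModule C) → Module.finrank k (Coh.HH C N 0) = 0) := by
  have hK := CurveRR.isFunctionField k h0
  have hG : _root_.FunFld.genus k C.functionField = 1 := (CurveRR.genus_eq k h0).symm.trans hg
  obtain ⟨D, ⟨e⟩⟩ := CurveRR.exists_iso_oD k hN
  rw [Euler.deg_of_iso k e 1, CurveRR.deg_oD, (Euler.hhEquiv (A := k) e 0).finrank_eq, CurveRR.finrank_H0_oD]
  refine ⟨fun h => GrothLib.FunFld.IsFG.ell_eq_zero_of_deg_neg hK.1 h, fun h => ?_, fun h hne => ?_⟩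
  · exact FunFld.ell_eq_deg_of_genus_one hK hG h
  · by_contra hl
    obtain ⟨w, hw, -, hE⟩ := GrothLib.FunFld.IsFG.exists_of_ell_pos hK.1 (D := D) (Nat.pos_of_ne_zero hl)
    have hd : (D + _root_.FunFld.div k w).deg = 0 := by rw [FunFld.deg_add, GrothLib.FunFld.IsFG.deg_div hK.1, add_zero, h]
    have hz : (0 : _root_.FunFld.Divisor k C.functionField) = D + _root_.FunFld.div k w :=
      GrothLib.FunFld.IsFG.eq_of_le_of_deg_le hK.1 hE (hd.le.trans (by simp))
    obtain ⟨i⟩ := K0Curve28.nonempty_iso_of_sub_mem k (D := D) (E := 0) (by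
      rw [sub_zero, eq_neg_of_add_eq_zero_left hz.symm]
      exact neg_mem ((FunFld.mem_prinDivs_iff hK.1 _).2 ⟨w, hw, rfl⟩))
    exact hne ⟨e ≪≫ i ≪≫ (CurveRR.nonempty_iso_oD_zero k).some.symm⟩

include hf hrk h0 hg in
theorem exists_split {L : C.Modules} (hL : PicF.IsInvertible L) (d : ℤ) (hd : Curv2.deg k C L 1 = d) :
    ∃ c : Fin 2 → ℤ, Nonempty ((Scheme.Modules.pushforward f).obj L ≅ ∐ fun j : Fin 2 => O1 k (c j)) ∧
      c 1 ≤ c 0 ∧ c 0 + c 1 = d - 2 ∧
      (∀ e : ℤ, d = 2 * e + 1 → c 0 ≤ e) ∧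
      (∀ e : ℤ, d = 2 * e → Nonempty (L ≅ (Scheme.Modules.pullback f).obj (O1 k e)) →
        (c 0 - e + 1).toNat + (c 1 - e + 1).toNat = 1) ∧
      (∀ e : ℤ, d = 2 * e → ¬ Nonempty (L ≅ (Scheme.Modules.pullback f).obj (O1 k e)) → c 0 < e) := by
  obtain ⟨c, hc, ⟨es⟩⟩ := CurveMult.P1Split.exists_splitting k 2 _ (isFinLocFreeOfRank_push k f hf hrk hL)
  have hh : ∀ t : ℤ, Module.finrank k (Coh.HH C (T L ((Scheme.Modules.pullback f).obj (O1 k t))) 0) =
      (c 0 + t + 1).toNat + (c 1 + t + 1).toNat := fun t => by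
    obtain ⟨a⟩ := CurveMult.P1Split.nonempty_twist_sum k 2 c t
    rw [← (finrank_H0_twist k f hf hL t).1]
    rw [(Euler.hhEquiv (A := k) (mapT es (O1 k t) ≪≫ a) 0).finrank_eq,
      CurveMult.P1Split.finrank_H0_sum, Fin.sum_univ_two]
  have hinv : ∀ t : ℤ, PicF.IsInvertible (T L ((Scheme.Modules.pullback f).obj (O1 k t))) := fun t =>
    Ample.isInvertible_tensorMod hL (Ample.isInvertible_pullback f (inv_O1 k t))
  have hdeg : ∀ t : ℤ, Curv2.deg k C (T L ((Scheme.Modules.pullback f).obj (O1 k t))) 1 = d + 2 * t := fun t => by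
    have h2 : Curv2.deg k C (T L ((Scheme.Modules.pullback f).obj (O1 k t))) 1 =
        Curv2.deg k C L 1 + (1 : ℕ) * Curv2.deg k C ((Scheme.Modules.pullback f).obj (O1 k t)) 1 :=
      deg_tensor k (Euler.isFinLocFreeOfRank_one_of_invertible hL) (Kleiman.isInv_pullback f (inv_O1 k t))
    rw [h2, hd, deg_pullback k f hf hrk, Nat.cast_one, one_mul]
  have hle : c 1 ≤ c 0 := hc (Fin.zero_le _)
  refine ⟨c, ⟨es⟩, hle, ?_, ?_, ?_, ?_⟩
  · have h := (h0_genus_one k h0 hg (hinv (|d| + |c 0| + |c 1| + 1))).2.1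
    rw [hdeg, hh] at h
    have := abs_nonneg d; have := neg_abs_le d; have := abs_nonneg (c 0); have := neg_abs_le (c 0)
    have := abs_nonneg (c 1); have := neg_abs_le (c 1)
    have h' := h (by omega)
    push_cast at h'
    omega
  · intro e he
    have h := (h0_genus_one k h0 hg (hinv (-e - 1))).1
    rw [hdeg, hh] at h
    have := h (by omega)
    omega
  · intro e he hLe
    obtain ⟨i⟩ := (exists_pullback_twist_iso k f hf hL e).2 hLe
    have := hh (-e)
    rw [(Euler.hhEquiv (A := k) i 0).finrank_eq, h0] at this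
    simpa [sub_eq_add_neg] using this.symm
  · intro e he hLe
    have h := (h0_genus_one k h0 hg (hinv (-e))).2.2
    rw [hdeg, hh] at h
    have := h (by omega) fun hi => hLe ((exists_pullback_twist_iso k f hf hL e).1 hi)
    omega

end GrothLib.DblSplit28
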